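import Groth.Agent.Lib.IntMult26.Samuel
import Groth.Agent.S7146
import Mathlib.Algebra.Group.ForwardDiff
import Mathlib.Analysis.Polynomial.Basic

/-!
The number of top dimensional components is at most the colength of a system of parameters.
-/

set_option autoImplicit false
set_option linter.style.haveILetI false

universe u

open Filter Topology Polynomial fwdDiff

namespace Groth.Agent.RedHyp1

variable {A : Type u} [CommRing A] [IsNoetherianRing A] [IsLocalRing A]

theorem pow_maximalIdeal_le {D : ℕ} (y : Fin D → A)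
    (hfin : IsFiniteLength A (A ⧸ Ideal.span (Set.range y))) :
    ∃ n : ℕ, IsLocalRing.maximalIdeal A ^ n ≤ Ideal.span (Set.range y) := by
  refine Ideal.exists_pow_le_of_le_radical_of_fg ?_ (IsNoetherian.noetherian _)
  rw [Ideal.radical_eq_sInf]
  refine le_sInf fun J hJ => ?_
  have hsupp : (⟨J, hJ.2⟩ : PrimeSpectrum A) ∈ Module.support A (A ⧸ Ideal.span (Set.range y)) := by
    rw [Module.support_eq_zeroLocus, Ideal.annihilator_quotient]
    exact hJ.1
  exact (IsLocalRing.eq_maximalIdeal (HilbSam.isMaximal_of_mem_support hfin hsupp)).ge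

theorem exists_mult {D : ℕ} (y : Fin D → A) (hy : ∀ i, y i ∈ IsLocalRing.maximalIdeal A)
    (hfin : IsFiniteLength A (A ⧸ Ideal.span (Set.range y))) (p : PrimeSpectrum A)
    (hp : ringKrullDim (A ⧸ p.asIdeal) = D) :
    ∃ e : ℕ, 1 ≤ e ∧ Tendsto (IntMult26.nhs (Ideal.span (Set.range y)) D (A ⧸ p.asIdeal)) atTop (𝓝 (e : ℝ)) := by
  let I := Ideal.span (Set.range y)
  have hI : I ≤ IsLocalRing.maximalIdeal A ∧ ∃ n : ℕ, IsLocalRing.maximalIdeal A ^ n ≤ I :=
    ⟨Ideal.span_le.2 (by rintro _ ⟨i, rfl⟩; exact hy i), pow_maximalIdeal_le y hfin⟩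
  have hIj : I ≤ Ring.jacobson A := hI.1.trans (IsLocalRing.ringJacobson_eq_maximalIdeal A).ge
  have hfinp := IntMult26.isFiniteLength_quot hI (A ⧸ p.asIdeal)
  obtain ⟨q, hq, N, hN⟩ := HilbSam.polyLT_hs y hfinp
  have hnot : q ∉ degreeLT ℚ D := by
    intro hqD
    obtain ⟨l, hl⟩ := Order.le_krullDim_iff.1 (le_of_eq hp.symm)
    let g : PrimeSpectrum (A ⧸ p.asIdeal) → PrimeSpectrum A := PrimeSpectrum.comap (Ideal.Quotient.mk p.asIdeal)
    have hg : StrictMono g := fun a b hab => lt_of_le_of_ne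
      ((PrimeSpectrum.asIdeal_le_asIdeal _ _).1 (Ideal.comap_mono ((PrimeSpectrum.asIdeal_le_asIdeal _ _).2 hab.le)))
      fun h => hab.ne (PrimeSpectrum.comap_injective_of_surjective _ Ideal.Quotient.mk_surjective h)
    have hhead : p.asIdeal ≤ (l.map g hg).head.asIdeal := by
      rw [LTSeries.head_map]
      intro a ha
      show Ideal.Quotient.mk p.asIdeal a ∈ l.head.asIdeal
      rw [Ideal.Quotient.eq_zero_iff_mem.2 ha]
      exact zero_mem _
    have := HilbSam.length_lt_of_hs hIj D (l.map g hg) p.asIdeal hhead hfinp q hqD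
      (Filter.eventually_atTop.2 ⟨N, hN⟩)
    rw [LTSeries.map_length, hl] at this
    exact lt_irrefl _ this
  have hq0 : q ≠ 0 := fun h => hnot (h ▸ zero_mem _)
  have hdeg : q.natDegree = D := by
    refine le_antisymm (Nat.lt_succ_iff.1 ((natDegree_lt_iff_degree_lt hq0).2 (mem_degreeLT.1 hq))) ?_
    by_contra h
    exact hnot (mem_degreeLT.2 ((natDegree_lt_iff_degree_lt hq0).1 (not_le.1 h)))
  obtain ⟨z, hz⟩ : ∃ z : ℤ, (z : ℚ) = q.leadingCoeff * (D.factorial : ℚ) := by
    refine ⟨∑ k ∈ Finset.range (D + 1), ((-1 : ℤ) ^ (D - k) * D.choose k) * (HilbSam.hs I (A ⧸ p.asIdeal) (N + k) : ℤ), ?_⟩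
    have h1 := congrFun (Polynomial.fwdDiff_iter_degree_eq_factorial q) (N : ℚ)
    rw [fwdDiff_iter_eq_sum_shift, hdeg] at h1
    rw [Pi.smul_apply, Pi.natCast_apply, smul_eq_mul] at h1
    rw [← h1, Int.cast_sum]
    refine Finset.sum_congr rfl fun k _ => ?_
    rw [zsmul_eq_mul, Int.cast_mul, Int.cast_natCast, hN (N + k) (Nat.le_add_right N k)]
    simp
  have hlim : Tendsto (IntMult26.nhs I D (A ⧸ p.asIdeal)) atTop (𝓝 (z : ℝ)) := by
    have hd : (q.map (algebraMap ℚ ℝ)).degree = ((X : ℝ[X]) ^ D).degree := by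
      rw [degree_X_pow, degree_map, degree_eq_natDegree hq0, hdeg]
    have h1 := ((div_tendsto_atTop_leadingCoeff_div_of_degree_eq _ _ hd).comp tendsto_natCast_atTop_atTop).const_mul
      (D.factorial : ℝ)
    have h2 : (D.factorial : ℝ) * ((q.map (algebraMap ℚ ℝ)).leadingCoeff / ((X : ℝ[X]) ^ D).leadingCoeff) = (z : ℝ) := by
      rw [leadingCoeff_map, leadingCoeff_X_pow, div_one, eq_ratCast, show (z : ℝ) = ((z : ℚ) : ℝ) by simp, hz]
      push_cast
      ring
    rw [h2] at h1
    refine h1.congr' ?_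
    filter_upwards [eventually_ge_atTop N] with t ht
    simp only [Function.comp_apply, eval_map_algebraMap, eval_pow, eval_X, IntMult26.nhs]
    rw [mul_div_assoc]
    congr 2
    have h3 := hN t ht
    rw [show ((Module.length A ((A ⧸ p.asIdeal) ⧸ (I ^ t • ⊤ : Submodule A (A ⧸ p.asIdeal)))).toNat : ℝ) =
      ((HilbSam.hs I (A ⧸ p.asIdeal) t : ℚ) : ℝ) by simp [HilbSam.hs], h3]
    simp [aeval_def, eval₂_at_natCast]
  have hz0 : (0 : ℝ) ≤ z := ge_of_tendsto hlim (Eventually.of_forall fun t => by simp only [IntMult26.nhs]; positivity)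
  have hz1 : z ≠ 0 := fun h => by
    rw [h, Int.cast_zero, eq_comm, mul_eq_zero, leadingCoeff_eq_zero] at hz
    exact hz.elim hq0 (Nat.cast_ne_zero.2 D.factorial_ne_zero)
  have hznat : (0 : ℤ) ≤ z := by exact_mod_cast hz0
  refine ⟨z.toNat, by omega, ?_⟩
  rwa [show ((z.toNat : ℕ) : ℝ) = (z : ℝ) by exact_mod_cast Int.toNat_of_nonneg hznat]

theorem card_top_le {D : ℕ} (hD : ringKrullDim A ≤ D) (y : Fin D → A)
    (hy : ∀ i, y i ∈ IsLocalRing.maximalIdeal A)
    (hfin : IsFiniteLength A (A ⧸ Ideal.span (Set.range y))) (s : Finset (PrimeSpectrum A))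
    (hs : ∀ p ∈ s, ringKrullDim (A ⧸ p.asIdeal) = D) :
    (s.card : ℕ∞) ≤ Module.length A (A ⧸ Ideal.span (Set.range y)) := by
  classical
  rcases s.eq_empty_or_nonempty with rfl | ⟨p₀, hp₀⟩
  · simp
  let I := Ideal.span (Set.range y)
  have hI : I ≤ IsLocalRing.maximalIdeal A ∧ ∃ n : ℕ, IsLocalRing.maximalIdeal A ^ n ≤ I :=
    ⟨Ideal.span_le.2 (by rintro _ ⟨i, rfl⟩; exact hy i), pow_maximalIdeal_le y hfin⟩
  have hDeq : ringKrullDim A = D := le_antisymm hD ((hs p₀ hp₀).symm.le.trans (ringKrullDim_quotient_le _))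
  have hmin : ∀ p : PrimeSpectrum A, ringKrullDim (A ⧸ p.asIdeal) = D → p.asIdeal ∈ minimalPrimes A := by
    intro p hp
    refine ⟨⟨p.2, bot_le⟩, fun Q hQ hQp => ?_⟩
    by_contra hne
    have hlt : (⟨Q, hQ.1⟩ : PrimeSpectrum A) < p :=
      (PrimeSpectrum.asIdeal_lt_asIdeal _ _).1 (lt_of_le_of_ne hQp fun h => hne (le_of_eq h.symm))
    have h1 := (IntMult26.ringKrullDim_quotient_succ_le hlt).trans (ringKrullDim_quotient_le _)
    rw [hp, hDeq] at h1
    have : (D + 1 : ℕ) ≤ D := by exact_mod_cast h1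
    omega
  have hfinT : {p : PrimeSpectrum A | ringKrullDim (A ⧸ p.asIdeal) = D}.Finite :=
    ((minimalPrimes.finite_of_isNoetherianRing A).preimage fun a _ b _ => PrimeSpectrum.ext).subset hmin
  choose e he1 he using fun (p : PrimeSpectrum A) (hp : ringKrullDim (A ⧸ p.asIdeal) = D) => exists_mult y hy hfin p hp
  let ef : PrimeSpectrum A → ℕ := fun p => if hp : ringKrullDim (A ⧸ p.asIdeal) = D then e p hp else 0
  have hlim := IntMult26.tendsto_nhs_sum hI A D (by rw [Module.supportDim_self_eq_ringKrullDim]; exact hD)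
    (fun p => (ef p : ℝ)) (fun p hp => by simp only [ef, dif_pos hp]; exact he p hp)
  rw [finsum_cond_eq_sum_of_cond_iff (p := fun p : PrimeSpectrum A => ringKrullDim (A ⧸ p.asIdeal) = (D : WithBot ℕ∞)) (t := hfinT.toFinset) _ fun {p} _ => hfinT.mem_toFinset.symm] at hlim
  let E : ℕ := ∑ p ∈ hfinT.toFinset, (Herbrand26.locLen p A).toNat * ef p
  have hE : Tendsto (IntMult26.nhs I D A) atTop (𝓝 (E : ℝ)) := by
    simp only [E, Nat.cast_sum, Nat.cast_mul]
    exact hlim
  have hle : (E : ℕ∞) ≤ Module.length A (A ⧸ I) := by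
    refine S7146.result A D hDeq y hy ?_ E (hE.congr' (Eventually.of_forall fun t => ?_))
    · obtain ⟨n, hn⟩ := hI.2
      exact fun x hx => ⟨n, hn (Ideal.pow_mem_pow hx n)⟩
    · simp only [IntMult26.nhs]
      rw [(Submodule.quotEquivOfEq _ _ (show (I ^ t • ⊤ : Submodule A A) = I ^ t by rw [smul_eq_mul, Ideal.mul_top])).length_eq]
  refine le_trans ?_ hle
  have hcard : s.card ≤ E := by
    calc s.card = ∑ _p ∈ s, 1 := by simp
      _ ≤ ∑ p ∈ s, (Herbrand26.locLen p A).toNat * ef p := Finset.sum_le_sum fun p hp => by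
          have hp' := hs p hp
          simp only [ef, dif_pos hp']
          refine Nat.one_le_iff_ne_zero.2 (mul_ne_zero ?_ (Nat.one_le_iff_ne_zero.1 (he1 p hp')))
          intro h0
          haveI : Ring.KrullDimLE 0 (Localization.AtPrime p.asIdeal) :=
            Ring.krullDimLE_iff.2 (by
              rw [IsLocalization.AtPrime.ringKrullDim_eq_height p.asIdeal (Localization.AtPrime p.asIdeal),
                Ideal.height_eq_zero_iff.2 (hmin p hp')]
              simp)
          haveI : IsArtinianRing (Localization.AtPrime p.asIdeal) := IsNoetherianRing.isArtinianRing_of_krullDimLE_zero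
          rcases ENat.toNat_eq_zero.1 h0 with h | h
          · have hsupp : p ∈ Module.support A A := by
              rw [Module.mem_support_iff_of_finite, Module.annihilator_eq_bot.2 inferInstance]
              exact bot_le
            haveI : Nontrivial (LocalizedModule p.asIdeal.primeCompl A) := Module.mem_support_iff.1 hsupp
            exact Module.length_pos.ne' h
          · exact Module.length_ne_top h
      _ ≤ E := Finset.sum_le_sum_of_subset fun p hp => hfinT.mem_toFinset.2 (hs p hp)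
  exact_mod_cast hcard

end Groth.Agent.RedHyp1
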