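import Groth.Agent.Lib.RedHyp1.Count
import Groth.Agent.Lib.CAlgLow.AnUnramNagata

/-!
Reduced hypersurface sections through a radical ideal in a normal local domain.
-/

set_option autoImplicit false
set_option linter.style.haveILetI false

universe u

open IsLocalRing

namespace Groth.Agent.RedHyp1

variable {R : Type u} [CommRing R]

/-- The symbolic square. -/
noncomputable def sq2 (P : Ideal R) [P.IsPrime] : Ideal R :=
  (maximalIdeal (Localization.AtPrime P) ^ 2).comap (algebraMap R (Localization.AtPrime P))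

theorem le_of_add_one_le {x : WithBot ℕ∞} {D : ℕ} (h : x + 1 ≤ (D : WithBot ℕ∞) + 1) : x ≤ (D : WithBot ℕ∞) := by
  induction x with
  | bot => exact bot_le
  | coe x =>
    have h' : x + 1 ≤ (D : ℕ∞) + 1 := by exact_mod_cast h
    exact_mod_cast (ENat.add_le_add_iff_right ENat.one_ne_top).1 h'

theorem mem_sq2 {P : Ideal R} [P.IsPrime] {x : R} :
    x ∈ sq2 P ↔ algebraMap R (Localization.AtPrime P) x ∈ maximalIdeal (Localization.AtPrime P) ^ 2 := Iff.rfl

theorem sq2_le (P : Ideal R) [P.IsPrime] : sq2 P ≤ P := fun x hx =>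
  (IsLocalization.AtPrime.to_map_mem_maximal_iff (Localization.AtPrime P) P x).1 (Ideal.pow_le_self two_ne_zero hx)

theorem mul_mem_sq2 (P : Ideal R) [P.IsPrime] {a b : R} (ha : a ∈ P) (hb : b ∈ P) : a * b ∈ sq2 P := by
  rw [mem_sq2]
  rw [map_mul, sq]
  exact Ideal.mul_mem_mul ((IsLocalization.AtPrime.to_map_mem_maximal_iff _ P a).2 ha)
    ((IsLocalization.AtPrime.to_map_mem_maximal_iff _ P b).2 hb)

theorem mem_sq2_of_mul_mem (P : Ideal R) [P.IsPrime] {a t : R} (h : a * t ∈ sq2 P) (ht : t ∉ P) : a ∈ sq2 P := by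
  rw [mem_sq2] at h ⊢
  rw [map_mul] at h
  exact ((maximalIdeal (Localization.AtPrime P)) ^ 2).mul_unit_mem_iff_mem
    (IsLocalization.map_units (M := P.primeCompl) _ ⟨t, ht⟩) |>.1 h

variable [IsDomain R] [IsNoetherianRing R] [IsIntegrallyClosed R]

theorem isAssociatedPrime_of_minimalPrimes {h : R} {P : Ideal R} (hP : P ∈ (Ideal.span {h}).minimalPrimes) :
    IsAssociatedPrime P (R ⧸ Ideal.span {h}) := by
  refine AssociatedPrimes.mem_iff.1 (Module.associatedPrimes.minimalPrimes_annihilator_subset_associatedPrimes R _ ?_)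
  rwa [Ideal.annihilator_quotient]

theorem height_eq_one_of_minimalPrimes {h : R} (hh : h ≠ 0) {P : Ideal R} [P.IsPrime]
    (hP : P ∈ (Ideal.span {h}).minimalPrimes) : P.height = 1 := by
  obtain ⟨hmem, hdvr⟩ := AnUnram.isDVR_localization hh P (isAssociatedPrime_of_minimalPrimes hP)
  haveI := hdvr
  have h1 := IsLocalization.AtPrime.ringKrullDim_eq_height P (Localization.AtPrime P)
  rw [IsPrincipalIdealRing.ringKrullDim_eq_one (Localization.AtPrime P) (IsDiscreteValuationRing.not_isField _)] at h1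
  exact_mod_cast h1.symm

theorem mem_minimalPrimes_of_height_one {h : R} (hh : h ≠ 0) {P : Ideal R} [P.IsPrime] (hP : P.height = 1)
    (hmem : h ∈ P) : P ∈ (Ideal.span {h}).minimalPrimes := by
  obtain ⟨Q, hQ, hQP⟩ := Ideal.exists_minimalPrimes_le ((Ideal.span_singleton_le_iff_mem P).2 hmem)
  haveI := hQ.1.1
  rcases hQP.eq_or_lt with rfl | hlt
  · exact hQ
  · have := Ideal.height_strict_mono_of_isPrime hlt
    rw [height_eq_one_of_minimalPrimes hh hQ, hP] at this
    exact absurd this (lt_irrefl _)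

theorem isReduced_quotient {h : R} (hh : h ≠ 0)
    (hsimple : ∀ (P : Ideal R) [P.IsPrime], P ∈ (Ideal.span {h}).minimalPrimes → h ∉ sq2 P) :
    IsReduced (R ⧸ Ideal.span {h}) := by
  refine ⟨fun z hz => ?_⟩
  obtain ⟨n, hn⟩ := hz
  obtain ⟨a, rfl⟩ := Ideal.Quotient.mk_surjective z
  by_contra hne
  obtain ⟨P, hP, hle⟩ := exists_le_isAssociatedPrime_of_isNoetherianRing R (Ideal.Quotient.mk (Ideal.span {h}) a) hne
  haveI := hP.isPrime
  obtain ⟨hmem, hdvr⟩ := AnUnram.isDVR_localization hh P hP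
  haveI := hdvr
  have hPmin : P ∈ (Ideal.span {h}).minimalPrimes := by
    refine mem_minimalPrimes_of_height_one hh ?_ hmem
    have h1 := IsLocalization.AtPrime.ringKrullDim_eq_height P (Localization.AtPrime P)
    rw [IsPrincipalIdealRing.ringKrullDim_eq_one (Localization.AtPrime P) (IsDiscreteValuationRing.not_isField _)] at h1
    exact_mod_cast h1.symm
  have haP : a ∈ P := by
    refine (inferInstance : P.IsPrime).mem_of_pow_mem n ?_
    rw [← map_pow, Ideal.Quotient.eq_zero_iff_mem] at hn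
    exact hPmin.1.2 hn
  obtain ⟨ϖ, hϖ⟩ := IsDiscreteValuationRing.exists_irreducible (Localization.AtPrime P)
  have hhm : algebraMap R (Localization.AtPrime P) h ∈ maximalIdeal _ :=
    (IsLocalization.AtPrime.to_map_mem_maximal_iff _ P h).2 hmem
  rw [hϖ.maximalIdeal_eq, Ideal.mem_span_singleton'] at hhm
  obtain ⟨c, hc⟩ := hhm
  have hcu : IsUnit c := by
    by_contra hcu
    refine hsimple P hPmin ?_
    rw [mem_sq2]
    rw [← hc, sq]
    exact Ideal.mul_mem_mul ((mem_maximalIdeal c).2 hcu) ((mem_maximalIdeal ϖ).2 hϖ.not_isUnit)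
  have ha : algebraMap R (Localization.AtPrime P) a ∈ (Ideal.span {h}).map (algebraMap R (Localization.AtPrime P)) := by
    rw [Ideal.map_span, Set.image_singleton, ← hc, Ideal.span_singleton_mul_left_unit hcu, ← hϖ.maximalIdeal_eq]
    exact (IsLocalization.AtPrime.to_map_mem_maximal_iff _ P a).2 haP
  rw [IsLocalization.algebraMap_mem_map_algebraMap_iff P.primeCompl] at ha
  obtain ⟨s, hs, hsa⟩ := ha
  refine hs (hle ?_)
  rw [Submodule.mem_colon_singleton, Submodule.mem_bot, Algebra.smul_def, Ideal.Quotient.algebraMap_eq, ← map_mul,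
    Ideal.Quotient.eq_zero_iff_mem]
  exact hsa

theorem exists_mem_notMem_sq2 {J : Ideal R} (hJ : J.IsRadical) (hJ0 : J ≠ ⊥) {P : Ideal R} [P.IsPrime]
    (hP : P.height = 1) : ∃ a ∈ J, a ∈ P ∧ a ∉ sq2 P := by
  obtain ⟨b, hb, hb0⟩ : ∃ b ∈ P, b ≠ 0 := by
    refine Submodule.exists_mem_ne_zero_of_ne_bot fun h => ?_
    rw [h, Ideal.height_bot] at hP
    exact zero_ne_one hP
  obtain ⟨-, hdvr⟩ := AnUnram.isDVR_localization hb0 P
    (isAssociatedPrime_of_minimalPrimes (mem_minimalPrimes_of_height_one hb0 hP hb))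
  haveI := hdvr
  obtain ⟨ϖ, hϖ⟩ := IsDiscreteValuationRing.exists_irreducible (Localization.AtPrime P)
  obtain ⟨r, t, hrt⟩ := IsLocalization.exists_mk'_eq P.primeCompl ϖ
  have hr : r ∈ P := (IsLocalization.AtPrime.mk'_mem_maximal_iff _ P r t).1 (hrt.symm ▸ (mem_maximalIdeal ϖ).2 hϖ.not_isUnit)
  have hr2 : r ∉ sq2 P := by
    intro h
    rw [mem_sq2] at h
    rw [← IsLocalization.mk'_spec (Localization.AtPrime P) r t, hrt,
      Ideal.mul_unit_mem_iff_mem _ (IsLocalization.map_units (M := P.primeCompl) _ t), hϖ.maximalIdeal_eq,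
      Ideal.span_singleton_pow, Ideal.mem_span_singleton] at h
    obtain ⟨c, hc⟩ := h
    have : ϖ * (ϖ * c) = ϖ * 1 := by rw [mul_one, ← mul_assoc, ← sq, ← hc]
    exact hϖ.not_isUnit (IsUnit.of_mul_eq_one c (mul_left_cancel₀ hϖ.ne_zero this))
  by_cases hJP : J ≤ P
  · have hrad : algebraMap R (Localization.AtPrime P) r ∈ (J.map (algebraMap R (Localization.AtPrime P))).radical := by
      rw [Ideal.radical_eq_sInf, Submodule.mem_sInf]
      rintro Q ⟨hQJ, hQ⟩
      rcases eq_or_ne Q ⊥ with rfl | hQ0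
      · obtain ⟨j, hj, hj0⟩ := Submodule.exists_mem_ne_zero_of_ne_bot hJ0
        have := Ideal.mem_bot.1 (hQJ (Ideal.mem_map_of_mem _ hj))
        exact absurd ((IsLocalization.to_map_eq_zero_iff _ P.primeCompl_le_nonZeroDivisors).1 this) hj0
      · rw [IsLocalRing.eq_maximalIdeal (Ideal.IsPrime.isMaximal hQ hQ0)]
        exact (IsLocalization.AtPrime.to_map_mem_maximal_iff _ P r).2 hr
    obtain ⟨m, hm⟩ := hrad
    rw [← map_pow, IsLocalization.algebraMap_mem_map_algebraMap_iff P.primeCompl] at hm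
    obtain ⟨s, hs, hsr⟩ := hm
    refine ⟨r * s, hJ ⟨m + 1, ?_⟩, P.mul_mem_right _ hr, fun h => hr2 (mem_sq2_of_mul_mem P h hs)⟩
    rw [mul_pow, pow_succ s, pow_succ r, show r ^ m * r * (s ^ m * s) = s * r ^ m * (r * s ^ m) by ring]
    exact J.mul_mem_right _ hsr
  · obtain ⟨j, hj, hjP⟩ := SetLike.not_le_iff_exists.1 hJP
    exact ⟨r * j, J.mul_mem_left _ hj, P.mul_mem_right _ hr, fun h => hr2 (mem_sq2_of_mul_mem P h hjP)⟩

open Classical in
theorem exists_reduced [IsLocalRing R] (D : ℕ) (hdim : ringKrullDim R = ((D + 1 : ℕ) : WithBot ℕ∞))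
    (hco : ∀ P : Ideal R, P.IsPrime → P.height = 1 → ringKrullDim (R ⧸ P) = (D : WithBot ℕ∞))
    (J : Ideal R) (hJ : J.IsRadical) (hJ0 : J ≠ ⊥) :
    ∃ f ∈ J, f ≠ 0 ∧ IsReduced (R ⧸ Ideal.span {f}) := by
  by_cases hJt : J = ⊤
  · haveI : Subsingleton (R ⧸ Ideal.span {(1 : R)}) := Ideal.Quotient.subsingleton_iff.2 Ideal.span_singleton_one
    exact ⟨1, hJt ▸ Submodule.mem_top, one_ne_zero, inferInstance⟩
  have hJm : J ≤ maximalIdeal R := le_maximalIdeal hJt
  by_cases hD : D = 0
  · -- the one-dimensional case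
    subst hD
    have hht : (maximalIdeal R).height = 1 := by
      have := IsLocalRing.maximalIdeal_height_eq_ringKrullDim (R := R)
      rw [hdim] at this
      exact_mod_cast this
    obtain ⟨f, hf, hfm, hf2⟩ := exists_mem_notMem_sq2 hJ hJ0 hht
    have hf0 : f ≠ 0 := fun h => hf2 (h ▸ zero_mem _)
    refine ⟨f, hf, hf0, isReduced_quotient hf0 fun P _ hP => ?_⟩
    have : P = maximalIdeal R := by
      refine (le_maximalIdeal hP.1.1.ne_top).eq_or_lt.resolve_right fun hlt => ?_
      have := Ideal.height_strict_mono_of_isPrime hlt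
      rw [height_eq_one_of_minimalPrimes hf0 hP, hht] at this
      exact lt_irrefl _ this
    subst this
    exact hf2
  obtain ⟨h₀, hh₀, hh₀0⟩ := Submodule.exists_mem_ne_zero_of_ne_bot hJ0
  have hdim₀ : Module.supportDim R (R ⧸ Ideal.span {h₀}) ≤ (D : WithBot ℕ∞) := by
    rw [Module.supportDim_quotient_eq_ringKrullDim]
    have h1 := ringKrullDim_quotient_succ_le_of_nonZeroDivisor (mem_nonZeroDivisors_of_ne_zero hh₀0)
    rw [hdim, Nat.cast_add, Nat.cast_one] at h1
    exact le_of_add_one_le h1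
  obtain ⟨y, hy, hfin⟩ := HilbSam.exists_parameters_module (A := R) (M := R ⧸ Ideal.span {h₀}) hdim₀
  have hy' : ∀ i, y i ∈ maximalIdeal R := fun i => IsLocalRing.ringJacobson_eq_maximalIdeal R ▸ hy i
  let Y := Ideal.span (Set.range y)
  let Q₀ := Ideal.span {h₀} ⊔ Y
  have hfinQ : IsFiniteLength R (R ⧸ Q₀) := HilbSam.isFiniteLength_of_support fun p hp => by
    refine HilbSam.isMaximal_of_mem_support hfin ?_
    rw [Module.support_quotient, Module.support_eq_zeroLocus, Ideal.annihilator_quotient]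
    rw [Module.support_eq_zeroLocus, Ideal.annihilator_quotient] at hp
    exact ⟨fun a ha => hp (Ideal.mem_sup_left ha), fun a ha => hp (Ideal.mem_sup_right ha)⟩
  have hQm : Q₀ ≤ maximalIdeal R :=
    sup_le ((Ideal.span_singleton_le_iff_mem _).2 (hJm hh₀)) (Ideal.span_le.2 (by rintro _ ⟨i, rfl⟩; exact hy' i))
  obtain ⟨ℓ, hℓ⟩ := ENat.ne_top_iff_exists.1 (Module.length_ne_top_iff.2 hfinQ)
  let Good : R → Prop := fun h => h ∈ J ∧ h ≠ 0 ∧ Ideal.span {h} ⊔ Y = Q₀
  let Φ : R → Finset (Ideal R) := fun h => (Ideal.finite_minimalPrimes_of_isNoetherianRing R (Ideal.span {h})).toFinset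
  have hΦ : ∀ h P, P ∈ Φ h ↔ P ∈ (Ideal.span {h}).minimalPrimes := fun h P => Set.Finite.mem_toFinset _
  have hbound : ∀ h, Good h → (Φ h).card ≤ ℓ := by
    rintro h ⟨hhJ, hh0, hhQ⟩
    let A := R ⧸ Ideal.span {h}
    let q : R →+* A := Ideal.Quotient.mk (Ideal.span {h})
    haveI : Nontrivial A := Ideal.Quotient.nontrivial_iff.2 fun e =>
      (maximalIdeal.isMaximal R).ne_top (top_le_iff.1 (e.ge.trans ((Ideal.span_singleton_le_iff_mem _).2 (hJm hhJ))))
    haveI : IsLocalRing A := .of_surjective' q Ideal.Quotient.mk_surjective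
    have hDA : ringKrullDim A ≤ (D : WithBot ℕ∞) := by
      have h1 := ringKrullDim_quotient_succ_le_of_nonZeroDivisor (mem_nonZeroDivisors_of_ne_zero hh0)
      rw [hdim, Nat.cast_add, Nat.cast_one] at h1
      exact le_of_add_one_le h1
    have hker : RingHom.ker ((Ideal.Quotient.mk (Ideal.span (Set.range (q ∘ y)))).comp q) = Q₀ := by
      rw [← RingHom.comap_ker, Ideal.mk_ker, Set.range_comp, ← Ideal.map_span,
        Ideal.comap_map_of_surjective q Ideal.Quotient.mk_surjective, ← RingHom.ker_eq_comap_bot, Ideal.mk_ker,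
        sup_comm, hhQ]
    let E : (R ⧸ Q₀) ≃ₗ[R] (A ⧸ Ideal.span (Set.range (q ∘ y))) :=
      ((Ideal.quotientEquivAlgOfEq R hker.symm).trans (Ideal.quotientKerAlgEquivOfSurjective
        (f := (Ideal.Quotient.mkₐ R (Ideal.span (Set.range (q ∘ y)))).comp (Ideal.Quotient.mkₐ R (Ideal.span {h})))
        ((Ideal.Quotient.mk_surjective).comp Ideal.Quotient.mk_surjective))).toLinearEquiv
    have hlen : Module.length A (A ⧸ Ideal.span (Set.range (q ∘ y))) = (ℓ : ℕ∞) := by
      rw [hℓ, E.length_eq]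
      exact (Module.length_eq_of_surjective Ideal.Quotient.mk_surjective).symm
    have hfinA : IsFiniteLength A (A ⧸ Ideal.span (Set.range (q ∘ y))) :=
      Module.length_ne_top_iff.1 (by rw [hlen]; exact ENat.natCast_ne_top ℓ)
    have hym : ∀ i, (q ∘ y) i ∈ maximalIdeal A := fun i => by
      rw [mem_maximalIdeal, mem_nonunits_iff]
      intro hu
      haveI : IsLocalHom q := .of_surjective q Ideal.Quotient.mk_surjective
      exact (mem_maximalIdeal _).1 (hy' i) (IsUnit.of_map q (y i) hu)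
    let pt : {P : Ideal R // P ∈ Φ h} → PrimeSpectrum A := fun P =>
      ⟨P.1.map q, by
        haveI := ((hΦ h P.1).1 P.2).1.1
        exact Ideal.map_isPrime_of_surjective Ideal.Quotient.mk_surjective (by rw [Ideal.mk_ker]; exact ((hΦ h P.1).1 P.2).1.2)⟩
    have hpt : Function.Injective pt := by
      intro a b e
      have e1 := congrArg (fun p => p.asIdeal.comap q) e
      simp only [pt, Ideal.comap_map_of_surjective q Ideal.Quotient.mk_surjective, ← RingHom.ker_eq_comap_bot] at e1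
      rw [show RingHom.ker q = Ideal.span {h} from Ideal.mk_ker, sup_of_le_left ((hΦ h a.1).1 a.2).1.2, sup_of_le_left ((hΦ h b.1).1 b.2).1.2] at e1
      exact Subtype.ext e1
    have hdimp : ∀ p ∈ (Finset.univ.image pt), ringKrullDim (A ⧸ p.asIdeal) = (D : WithBot ℕ∞) := by
      intro p hp
      obtain ⟨P, -, rfl⟩ := Finset.mem_image.1 hp
      haveI := ((hΦ h P.1).1 P.2).1.1
      rw [← hco P.1 inferInstance (height_eq_one_of_minimalPrimes hh0 ((hΦ h P.1).1 P.2))]
      exact ringKrullDim_eq_of_ringEquiv ((DoubleQuot.quotQuotEquivQuotSup _ _).trans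
        (Ideal.quotEquivOfEq (sup_of_le_right ((hΦ h P.1).1 P.2).1.2)))
    have := card_top_le hDA (q ∘ y) hym hfinA _ hdimp
    rw [hlen, Nat.cast_le, Finset.card_image_of_injective _ hpt] at this
    simpa using this
  have hex : ∃ n, ∃ h, Good h ∧ (Φ h).card = n := ⟨_, h₀, ⟨hh₀, hh₀0, rfl⟩, rfl⟩
  obtain ⟨n₀, h₁, hg₁, hn₁⟩ := hex
  obtain ⟨h, ⟨hhJ, hh0, hhQ⟩, hmax⟩ : ∃ h, Good h ∧ ∀ h', Good h' → (Φ h').card ≤ (Φ h).card := by
    have hP : ∃ k, ∃ h, Good h ∧ ℓ - (Φ h).card = k := ⟨_, h₁, hg₁, rfl⟩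
    obtain ⟨h, hg, hk⟩ := Nat.find_spec hP
    refine ⟨h, hg, fun h' hg' => ?_⟩
    have := Nat.find_min' hP ⟨h', hg', rfl⟩
    have := hbound h hg
    have := hbound h' hg'
    omega
  -- the modification
  have hprime : ∀ P ∈ Φ h, P.IsPrime := fun P hP => ((hΦ h P).1 hP).1.1
  have hht : ∀ P ∈ Φ h, P.height = 1 := fun P hP => by
    haveI := hprime P hP
    exact height_eq_one_of_minimalPrimes hh0 ((hΦ h P).1 hP)
  obtain ⟨w, hwQ, hw⟩ : ∃ w ∈ maximalIdeal R * Q₀, ∀ P ∈ Φ h, w ∉ P := by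
    by_contra hcon
    push Not at hcon
    have hsub : ((maximalIdeal R * Q₀ : Ideal R) : Set R) ⊆ ⋃ P ∈ ((Φ h : Finset (Ideal R)) : Set (Ideal R)), (P : Set R) :=
      fun w hw => Set.mem_biUnion (hcon w hw).choose_spec.1 (hcon w hw).choose_spec.2
    obtain ⟨P, hP, hle⟩ := (Ideal.subset_union_prime (s := Φ h) (f := id) ⊥ ⊥ (fun P hP _ _ => hprime P hP)).1 hsub
    haveI := hprime P hP
    have hmP : maximalIdeal R ≤ P := by
      rcases (inferInstance : P.IsPrime).mul_le.1 hle with h' | h'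
      · exact h'
      · have hsupp : (⟨P, inferInstance⟩ : PrimeSpectrum R) ∈ Module.support R (R ⧸ Q₀) := by
          rw [Module.support_eq_zeroLocus, Ideal.annihilator_quotient]
          exact h'
        exact (IsLocalRing.eq_maximalIdeal (HilbSam.isMaximal_of_mem_support hfinQ hsupp)).ge
    have := hco P inferInstance (hht P hP)
    rw [le_antisymm (le_maximalIdeal (Ideal.IsPrime.ne_top inferInstance)) hmP,
      ringKrullDim_eq_zero_of_isField ((Ideal.Quotient.maximal_ideal_iff_isField_quotient _).1 (maximalIdeal.isMaximal R))] at this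
    exact hD (by exact_mod_cast this.symm)
  choose a haJ haP ha2 using fun P : {P // P ∈ Φ h} =>
    @exists_mem_notMem_sq2 R _ _ _ _ J hJ hJ0 P.1 (hprime P.1 P.2) (hht P.1 P.2)
  have hsep : ∀ P P' : {P // P ∈ Φ h}, P ≠ P' → ∃ t ∈ P'.1, t ∉ P.1 := fun P P' hne =>
    SetLike.not_le_iff_exists.1 fun hle => hne (Subtype.ext
      (le_antisymm (((hΦ h P.1).1 P.2).2 ((hΦ h P'.1).1 P'.2).1 hle) hle))
  choose! t ht ht' using hsep
  let T : {P // P ∈ Φ h} → R := fun P => ∏ P' ∈ Finset.univ.erase P, t P P' * t P P'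
  let c : {P // P ∈ Φ h} → R := fun P =>
    letI := hprime P.1 P.2
    if h ∈ sq2 P.1 then a P * T P else 0
  let z := w * ∑ P, c P
  have hcJ : ∀ P, c P ∈ J := fun P => by
    simp only [c]
    split_ifs
    · exact J.mul_mem_right _ (haJ P)
    · exact zero_mem J
  have hzJ : z ∈ J := J.mul_mem_left _ (sum_mem fun P _ => hcJ P)
  have hc2 : ∀ P Q : {P // P ∈ Φ h}, P ≠ Q → letI := hprime Q.1 Q.2; c P ∈ sq2 Q.1 := by
    intro P Q hne
    haveI := hprime Q.1 Q.2
    simp only [c]
    split_ifs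
    · refine Ideal.mul_mem_left _ _ ?_
      simp only [T]
      rw [← Finset.mul_prod_erase _ _ (Finset.mem_erase.2 ⟨Ne.symm hne, Finset.mem_univ Q⟩)]
      exact Ideal.mul_mem_right _ _ (mul_mem_sq2 Q.1 (ht P Q hne) (ht P Q hne))
    · exact zero_mem _
  have hnew : ∀ (P : Ideal R) [P.IsPrime], P ∈ Φ h → h + z ∈ P ∧ h + z ∉ sq2 P := by
    intro P _ hP
    let P' : {P // P ∈ Φ h} := ⟨P, hP⟩
    have hsum : (∑ Q, c Q) - c P' ∈ sq2 P := by
      rw [← Finset.sum_erase_eq_sub (Finset.mem_univ P')]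
      exact sum_mem fun Q hQ => hc2 Q P' (Finset.mem_erase.1 hQ).1
    have hhP : h ∈ P := ((hΦ h P).1 hP).1.2 (Ideal.mem_span_singleton_self h)
    have hz2 : z - w * c P' ∈ sq2 P := by
      rw [show z - w * c P' = w * ((∑ Q, c Q) - c P') by simp only [z, mul_sub]]
      exact Ideal.mul_mem_left _ _ hsum
    have hcP : c P' ∈ P := by
      simp only [c]
      split_ifs
      · exact P.mul_mem_right _ (haP P')
      · exact zero_mem P
    refine ⟨?_, fun hmem => ?_⟩
    · rw [show h + z = h + (z - w * c P') + w * c P' by ring]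
      exact add_mem (add_mem hhP (sq2_le P hz2)) (P.mul_mem_left _ hcP)
    · have h' : h + w * c P' ∈ sq2 P := by
        rw [show h + w * c P' = h + z - (z - w * c P') by ring]
        exact sub_mem hmem hz2
      simp only [c] at h'
      split_ifs at h' with hc
      · have hT : w * T P' ∉ P := fun h'' => by
          rcases (inferInstance : P.IsPrime).mem_or_mem h'' with h3 | h3
          · exact hw P hP h3
          · obtain ⟨Q, hQ, hQ'⟩ := (inferInstance : P.IsPrime).prod_mem_iff.1 h3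
            have := ht' P' Q (Ne.symm (Finset.mem_erase.1 hQ).1)
            exact ((inferInstance : P.IsPrime).mem_or_mem hQ').elim this this
        have h4 : a P' * (w * T P') ∈ sq2 P := by
          rw [show a P' * (w * T P') = h + w * (a P' * T P') - h by ring]
          exact sub_mem h' hc
        exact ha2 P' (mem_sq2_of_mul_mem P h4 hT)
      · exact hc (by simpa using h')
  have hne : h + z ≠ 0 := by
    obtain ⟨P, hP⟩ := Ideal.nonempty_minimalPrimes (I := Ideal.span {h}) fun e =>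
      (maximalIdeal.isMaximal R).ne_top (top_le_iff.1 (e.ge.trans ((Ideal.span_singleton_le_iff_mem _).2 (hJm hhJ))))
    haveI := hP.1.1
    intro e
    exact (hnew P ((hΦ h P).2 hP)).2 (e ▸ zero_mem _)
  have hzQ : z ∈ maximalIdeal R * Q₀ := Ideal.mul_mem_right _ _ hwQ
  have hgood : Good (h + z) := by
    refine ⟨add_mem hhJ hzJ, hne, le_antisymm ?_ ?_⟩
    · refine sup_le ((Ideal.span_singleton_le_iff_mem _).2 (add_mem ?_ (Ideal.mul_le_right hzQ))) le_sup_right
      exact hhQ ▸ Ideal.mem_sup_left (Ideal.mem_span_singleton_self h)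
    · refine Submodule.le_of_le_smul_of_le_jacobson_bot (IsNoetherian.noetherian Q₀)
        (IsLocalRing.maximalIdeal_le_jacobson _) ?_
      conv_lhs => rw [← hhQ]
      refine sup_le ((Ideal.span_singleton_le_iff_mem _).2 ?_) (le_sup_right.trans le_sup_left)
      have hs : (h + z) - z ∈ Ideal.span {h + z} ⊔ Y ⊔ maximalIdeal R • Q₀ :=
        sub_mem (Ideal.mem_sup_left (Ideal.mem_sup_left (Ideal.mem_span_singleton_self _)))
          (Ideal.mem_sup_right hzQ)
      simpa using hs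
  have hsubset : Φ h ⊆ Φ (h + z) := fun P hP => by
    haveI := hprime P hP
    exact (hΦ _ P).2 (mem_minimalPrimes_of_height_one hne (hht P hP) (hnew P hP).1)
  have heq := Finset.eq_of_subset_of_card_le hsubset (hmax _ hgood)
  refine ⟨h + z, hgood.1, hne, isReduced_quotient hne fun P _ hP => ?_⟩
  exact (hnew P (heq ▸ (hΦ _ P).2 hP)).2

end Groth.Agent.RedHyp1
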